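import Cfsg.Agent.ClassSize.FourIndex
import Cfsg.Agent.InvolCalc.StronglyEmbedded
import Cfsg.Agent.Coprime.Fitting
import Cfsg.Agent.S0205

/-!
A finite group which is the product of an odd order subgroup and an abelian 2-subgroup is soluble; a perfect
group with abelian Sylow 2-subgroups has no proper subgroup of 2-power index.
-/

set_option autoImplicit false
set_option linter.style.haveILetI false
set_option linter.unusedSectionVars false

universe u

namespace Cfsg.Lib.OddHall

open Subgroup

variable {G : Type u} [Group G] [Finite G]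

/-- every 2-subgroup is abelian -/
def AbTwo (G : Type u) [Group G] : Prop :=
  ∀ Q : Subgroup G, IsPGroup 2 Q → ∀ a ∈ Q, ∀ b ∈ Q, a * b = b * a

theorem abTwo_sub (h : AbTwo G) (M : Subgroup G) : AbTwo M := fun Q hQ a ha b hb =>
  Subtype.ext (h (Q.map M.subtype) (hQ.map _) a (mem_map_of_mem M.subtype ha) b (mem_map_of_mem M.subtype hb))

theorem abTwo_quot (h : AbTwo G) (N : Subgroup G) [N.Normal] : AbTwo (G ⧸ N) := by
  haveI : Fact (Nat.Prime 2) := ⟨Nat.prime_two⟩
  intro Q hQ a ha b hb
  obtain ⟨P, hP⟩ := hQ.exists_le_sylow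
  obtain ⟨S⟩ := (inferInstance : Nonempty (Sylow 2 G))
  obtain ⟨z, hz⟩ := MulAction.exists_smul_eq (G ⧸ N) P (S.mapSurjective (QuotientGroup.mk'_surjective N))
  have key : ∀ q ∈ Q, ∃ s ∈ (S : Subgroup G), QuotientGroup.mk' N s = z * q * z⁻¹ := by
    intro q hq
    have h1 : z * q * z⁻¹ ∈ ((z • P : Sylow 2 (G ⧸ N)) : Subgroup (G ⧸ N)) :=
      Subgroup.smul_mem_pointwise_smul (a := MulAut.conj z) _ _ (hP hq)
    rw [hz, Sylow.coe_mapSurjective] at h1
    exact h1
  obtain ⟨s, hs, e1⟩ := key a ha
  obtain ⟨t, ht, e2⟩ := key b hb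
  have h2 := congrArg (QuotientGroup.mk' N) (h S S.2 s hs t ht)
  rw [map_mul, map_mul, e1, e2] at h2
  calc a * b = z⁻¹ * ((z * a * z⁻¹) * (z * b * z⁻¹)) * z := by group
    _ = z⁻¹ * ((z * b * z⁻¹) * (z * a * z⁻¹)) * z := by rw [h2]
    _ = b * a := by group

/-- if `H` has as many cosets in `K` as in `G`, then `G = K H` -/
theorem exists_factor {H K : Subgroup G} (h : H.index ≤ H.relIndex K) (g : G) :
    ∃ k ∈ K, ∃ x ∈ H, g = k * x := by
  classical
  let f : K ⧸ H.subgroupOf K → G ⧸ H := Quotient.lift (fun k : K => ((k : G) : G ⧸ H)) (by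
    intro a b hab
    have hab' := mem_subgroupOf.mp (QuotientGroup.leftRel_apply.mp hab)
    exact QuotientGroup.eq.mpr (by simpa using hab'))
  have hf : Function.Injective f := by
    intro a b
    induction a using QuotientGroup.induction_on
    induction b using QuotientGroup.induction_on
    intro e
    exact QuotientGroup.eq.mpr (mem_subgroupOf.mpr (by simpa using QuotientGroup.eq.mp e))
  have hbij := hf.bijective_of_nat_card_le (by
    rw [← index_eq_card, ← index_eq_card]; exact h)
  obtain ⟨q, hq⟩ := hbij.surjective (g : G ⧸ H)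
  induction q using QuotientGroup.induction_on with
  | _ k => exact ⟨k, k.2, (k : G)⁻¹ * g, QuotientGroup.eq.mp hq, by group⟩

/-- a central element of an abelian Sylow subgroup of a perfect group is trivial -/
theorem center_eq_bot (hp : commutator G = ⊤)
    (hA : ∀ (p : ℕ) [Fact p.Prime] (P : Sylow p G), ∀ a ∈ P, ∀ b ∈ P, a * b = b * a) :
    center G = ⊥ := by
  by_contra hne
  obtain ⟨p, hp', hdvd⟩ := Nat.exists_prime_and_dvd ((center G).one_lt_card_iff_ne_bot.mpr hne).ne'
  haveI := Fact.mk hp'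
  obtain ⟨c, hc⟩ := exists_prime_orderOf_dvd_card' (G := center G) p hdvd
  set w : G := (c : G) with hwdef
  have hw : orderOf w = p := by rw [hwdef, Subgroup.orderOf_coe, hc]
  obtain ⟨P, hP⟩ := (IsPGroup.of_card (G := zpowers w) (n := 1)
    (by rw [Nat.card_zpowers, hw, pow_one])).exists_le_sylow
  letI : CommGroup (P : Subgroup G) :=
    { (inferInstance : Group (P : Subgroup G)) with
      mul_comm := fun a b => Subtype.ext (hA p P a a.2 b b.2) }
  have key : ∀ (k : ℕ) (g₀ : G), g₀⁻¹ * w ^ k * g₀ ∈ (P : Subgroup G) → g₀⁻¹ * w ^ k * g₀ = w ^ k := by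
    intro k g₀ _
    rw [mul_assoc, ← (mem_center_iff.mp (pow_mem c.2 k) g₀), inv_mul_cancel_left]
  set φ := MonoidHom.transfer (MonoidHom.id (P : Subgroup G))
  have h1 : φ w = 1 := Abelianization.commutator_subset_ker φ (hp ▸ mem_top w)
  rw [MonoidHom.transfer_eq_pow _ _ key] at h1
  have h2 : w ^ (P : Subgroup G).index = 1 := congrArg Subtype.val h1
  have h3 := orderOf_dvd_of_pow_eq_one h2
  rw [hw] at h3
  exact P.not_dvd_index h3

theorem normal_odd_le {K W : Subgroup G} [W.Normal] {k : ℕ} (hi : K.index = 2 ^ k) (hW : Odd (Nat.card W)) :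
    W ≤ K := by
  rw [← relIndex_eq_one]
  have h1 : K.relIndex W ∣ 2 ^ k := hi ▸ ClassSize.FourIndex.relIndex_dvd_index W K
  have h2 : K.relIndex W ∣ Nat.card W := index_dvd_card _
  exact Nat.eq_one_of_dvd_coprimes (Nat.Coprime.pow_left k (Nat.coprime_two_left.mpr hW)) h1 h2

theorem odd_subgroupOf {O : Subgroup G} (hO : Odd (Nat.card O)) (M : Subgroup G) :
    Odd (Nat.card (O.subgroupOf M)) := by
  refine hO.of_dvd_nat ?_
  rw [← card_map_of_injective M.subtype_injective, subgroupOf_map_subtype]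
  exact card_dvd_of_le inf_le_left

/-- a normal Sylow subgroup contains every `p`-subgroup -/
theorem le_normal_sylow {p : ℕ} [Fact p.Prime] (P : Sylow p G) (hn : (P : Subgroup G).Normal) {Q : Subgroup G}
    (hQ : IsPGroup p Q) : Q ≤ (P : Subgroup G) := by
  obtain ⟨R, hR⟩ := hQ.exists_le_sylow
  haveI := Sylow.unique_of_normal P hn
  rwa [Subsingleton.elim R P] at hR

/-- A group with an odd order subgroup of 2-power index and abelian 2-subgroups is soluble. -/
theorem solvable_of_odd_hall (n : ℕ) : ∀ (G : Type u) [Group G] [Finite G], Nat.card G ≤ n → AbTwo G →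
    ∀ (O : Subgroup G), Odd (Nat.card O) → ∀ k : ℕ, O.index = 2 ^ k → Group.IsSolvable G := by
  haveI : Fact (Nat.Prime 2) := ⟨Nat.prime_two⟩
  induction n with
  | zero => intro G _ _ h; exact absurd h (by have := Nat.card_pos (α := G); omega)
  | succ n ih =>
    intro G _ _ hn hab O hO k hk
    by_contra hns
    have hnc : ¬ ∀ a b : G, a * b = b * a := fun h => hns (Group.isSolvable_of_comm h)
    haveI hnt : Nontrivial G := by
      by_contra hnt
      haveI := not_nontrivial_iff_subsingleton.mp hnt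
      exact hnc fun a b => Subsingleton.elim _ _
    -- simplicity
    haveI : IsSimpleGroup G := by
      refine { hnt with eq_bot_or_eq_top_of_normal := fun N hN => ?_ }
      by_contra hcon
      push Not at hcon
      have hN1 := N.one_lt_card_iff_ne_bot.mpr hcon.1
      have hN2 : Nat.card N < Nat.card G :=
        lt_of_le_of_ne (card_le_card_group N) fun e => hcon.2 (eq_top_of_card_eq N e)
      haveI : Group.IsSolvable N := by
        obtain ⟨j, -, hj⟩ := (Nat.dvd_prime_pow Nat.prime_two).mp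
          (hk ▸ ClassSize.FourIndex.relIndex_dvd_index N O)
        refine ih N (by omega) (abTwo_sub hab N) (O.subgroupOf N) (odd_subgroupOf hO N) j hj
      haveI : Group.IsSolvable (G ⧸ N) := by
        obtain ⟨j, -, hj⟩ := (Nat.dvd_prime_pow Nat.prime_two).mp
          (hk ▸ O.index_map_dvd (QuotientGroup.mk'_surjective N))
        refine ih (G ⧸ N) ?_ (abTwo_quot hab N) (O.map (QuotientGroup.mk' N))
          (hO.of_dvd_nat (O.card_map_dvd _)) j hj
        have h2 := Subgroup.card_eq_card_quotient_mul_card_subgroup N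
        have h3 : 0 < Nat.card (G ⧸ N) := Nat.card_pos
        have : Nat.card (G ⧸ N) < Nat.card G := h2 ▸ lt_mul_of_one_lt_right h3 hN1
        omega
      exact hns (Group.isSolvable_of_ker_le_range N.subtype (QuotientGroup.mk' N)
        (by simp [Subgroup.range_subtype]))
    obtain ⟨S⟩ := (inferInstance : Nonempty (Sylow 2 G))
    have hcS : ∀ a ∈ S, ∀ b ∈ S, a * b = b * a := fun a ha b hb => hab S S.2 a ha b hb
    have hcardS : Nat.card S = 2 ^ k := by
      refine Nat.dvd_antisymm ?_ (S.pow_dvd_card_of_pow_dvd_card (hk ▸ O.index_dvd_card))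
      have h1 : Nat.card S ∣ Nat.card O * 2 ^ k := by
        rw [← hk, O.card_mul_index]; exact card_subgroup_dvd_card _
      obtain ⟨j, hj⟩ := S.2.exists_card_eq
      exact (hj ▸ Nat.Coprime.pow_left j (Nat.coprime_two_left.mpr hO) :
        (Nat.card S).Coprime (Nat.card O)).dvd_of_dvd_mul_left h1
    have hrelS : ∀ M : Subgroup G, (S : Subgroup G) ≤ M → O.relIndex M = 2 ^ k := by
      intro M hM
      refine le_antisymm (by rw [← hk, ← relIndex_top_right]
                             exact relIndex_le_of_le_right le_top (by rw [relIndex_top_right]; exact index_ne_zero_of_finite)) ?_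
      have h1 : Nat.card (O.subgroupOf M) * O.relIndex M = Nat.card M := (O.subgroupOf M).card_mul_index
      have h2 : 2 ^ k ∣ Nat.card M := hcardS ▸ card_dvd_of_le hM
      rw [← h1] at h2
      have h3 : Odd (Nat.card (O.subgroupOf M)) := odd_subgroupOf hO M
      exact Nat.le_of_dvd (Nat.pos_of_ne_zero index_ne_zero_of_finite)
        ((Nat.Coprime.pow_left k (Nat.coprime_two_left.mpr h3)).dvd_of_dvd_mul_left h2)
    have hfac : ∀ g : G, ∃ s ∈ (S : Subgroup G), ∃ o ∈ O, g = s * o :=
      exists_factor (hk ▸ (hrelS S le_rfl).ge)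
    -- the overgroups of `S`
    have hover : ∀ M : Subgroup G, (S : Subgroup G) ≤ M → M ≠ ⊤ → M ≤ normalizer ((S : Subgroup G) : Set G) := by
      intro M hM hMtop
      have hlt : Nat.card M < Nat.card G :=
        lt_of_le_of_ne (card_le_card_group M) fun e => hMtop (eq_top_of_card_eq M e)
      have hOM : Odd (Nat.card (O.subgroupOf M)) := odd_subgroupOf hO M
      haveI : Group.IsSolvable M := ih M (by omega) (abTwo_sub hab M) (O.subgroupOf M) hOM k (hrelS M hM)
      set W := Cfsg.pPrimeCore 2 M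
      have hWodd : Odd (Nat.card W) := Nat.coprime_two_right.mp (Components.coprime_card_pPrimeCore 2)
      haveI : W.Normal := Components.pPrimeCore_normal' 2
      have hWO : W ≤ O.subgroupOf M := normal_odd_le (hrelS M hM) hWodd
      have hW : W = ⊥ := by
        set N := normalClosure ((W.map M.subtype : Subgroup G) : Set G)
        have hNO : N ≤ O := by
          show Subgroup.closure (Group.conjugatesOfSet _) ≤ O
          rw [Subgroup.closure_le]
          intro b hb
          obtain ⟨v, hv, hvb⟩ := Group.mem_conjugatesOfSet_iff.mp hb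
          obtain ⟨⟨w, hwM⟩, hw, rfl⟩ := hv
          obtain ⟨c, rfl⟩ := isConj_iff.mp hvb
          obtain ⟨s, hs, o, ho, e⟩ := hfac c⁻¹
          have h1 : (⟨s⁻¹ * w * s, mul_mem (mul_mem (inv_mem (hM hs)) hwM) (hM hs)⟩ : M) ∈ W := by
            have h0 := (inferInstance : W.Normal).conj_mem _ hw ⟨s⁻¹, inv_mem (hM hs)⟩
            convert h0 using 1
            exact Subtype.ext (show s⁻¹ * w * s = s⁻¹ * w * s⁻¹⁻¹ by rw [inv_inv])
          have h2 : s⁻¹ * w * s ∈ O := hWO h1
          show c * w * c⁻¹ ∈ O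
          rw [show c = o⁻¹ * s⁻¹ by rw [← mul_inv_rev, ← e, inv_inv],
            show o⁻¹ * s⁻¹ * w * (o⁻¹ * s⁻¹)⁻¹ = o⁻¹ * (s⁻¹ * w * s) * o by group]
          exact mul_mem (mul_mem (inv_mem ho) h2) ho
        rcases (normalClosure_normal : N.Normal).eq_bot_or_eq_top with e | e
        · have h1 : W.map M.subtype ≤ ⊥ := e ▸ le_normalClosure
          rwa [le_bot_iff, map_eq_bot_iff_of_injective _ M.subtype_injective] at h1
        · have hOt : O = ⊤ := eq_top_iff.mpr fun g _ => hNO (by rw [show N = ⊤ from e]; exact mem_top g)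
          rw [hOt, card_top] at hO
          exact absurd (Cfsg.Agent.S0205.result hO) hns
      -- the 2-core is the Sylow subgroup
      let SM : Sylow 2 M := S.subtype hM
      have h1 := Coprime.pCore_le_sylow 2 SM
      have h2 : (SM : Subgroup M) ≤ centralizer (Cfsg.pCore 2 M : Set M) := fun a ha =>
        mem_centralizer_iff.mpr fun b hb => Subtype.ext (hcS b (h1 hb) a ha)
      have h3 : (SM : Subgroup M) ≤ Cfsg.pCore 2 M := h2.trans (Coprime.centralizer_pCore_le 2 hW)
      have hnorm : (SM : Subgroup M).Normal := le_antisymm h1 h3 ▸ Components.pCore_normal' 2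
      intro m hm
      refine mem_normalizer_iff.mpr fun y => ⟨fun hy => ?_, fun hy => ?_⟩
      · exact hnorm.conj_mem ⟨y, hM hy⟩ hy ⟨m, hm⟩
      · have h4 := hnorm.conj_mem ⟨_, hM hy⟩ hy ⟨m⁻¹, inv_mem hm⟩
        have h5 : m⁻¹ * (m * y * m⁻¹) * m⁻¹⁻¹ ∈ (S : Subgroup G) := h4
        rwa [show m⁻¹ * (m * y * m⁻¹) * m⁻¹⁻¹ = y by group] at h5
    set M := normalizer ((S : Subgroup G) : Set G) with hMdef
    have hSM : (S : Subgroup G) ≤ M := le_normalizer
    have h2G : 2 ∣ Nat.card G := by
      by_contra h2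
      exact hns (Cfsg.Agent.S0205.result (Nat.odd_iff.mpr (Nat.two_dvd_ne_zero.mp h2)))
    have hk0 : k ≠ 0 := fun e => by
      have := S.pow_dvd_card_of_pow_dvd_card (n := 1) (by rwa [pow_one])
      rw [hcardS, e] at this; norm_num at this
    have hSne : (S : Subgroup G) ≠ ⊥ := fun e => by
      rw [e, card_bot] at hcardS
      exact hk0 (Nat.pow_right_injective le_rfl (hcardS.symm.trans (pow_zero 2).symm))
    have hMtop : M ≠ ⊤ := by
      intro e
      rcases (normalizer_eq_top_iff.mp e).eq_bot_or_eq_top with e' | e'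
      · exact hSne e'
      · exact hnc fun a b => hcS a (show a ∈ (S : Subgroup G) by rw [e']; exact mem_top a) b
          (show b ∈ (S : Subgroup G) by rw [e']; exact mem_top b)
    have hinv : ∀ t ∈ M, orderOf t = 2 → t ∈ (S : Subgroup G) := by
      intro t ht ht2
      exact le_normal_sylow (S.subtype hSM) normal_in_normalizer
        (IsPGroup.of_card (G := zpowers (⟨t, ht⟩ : M)) (n := 1)
          (by rw [Nat.card_zpowers, orderOf_mk, ht2, pow_one])) (mem_zpowers _)
    have hC : ∀ t ∈ (S : Subgroup G), orderOf t = 2 → centralizer ({t} : Set G) ≤ M := by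
      intro t ht ht2
      refine hover _ (fun s hs => mem_centralizer_singleton_iff.mpr (hcS s hs t ht)) fun e => ?_
      have hz : t ∈ center G := mem_center_iff.mpr fun g =>
        (mem_centralizer_singleton_iff.mp (e ▸ mem_top g : g ∈ centralizer ({t} : Set G)))
      rcases (inferInstance : (center G).Normal).eq_bot_or_eq_top with e' | e'
      · rw [e', mem_bot] at hz; rw [hz, orderOf_one] at ht2; norm_num at ht2
      · exact hnc fun a b => (mem_center_iff.mp (e' ▸ mem_top a) b).symm
    have hSE : Cfsg.IsStronglyEmbedded M := by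
      refine ⟨hMtop, even_iff_two_dvd.mpr ((hcardS ▸ dvd_pow_self 2 hk0).trans (card_dvd_of_le hSM)), fun g hg => ?_⟩
      rw [← Nat.not_even_iff_odd]
      intro he
      obtain ⟨t, htm, ht⟩ := StrongEmb.exists_involution_of_even he
      obtain ⟨htM, htg⟩ := mem_inf.1 htm
      rw [StrongEmb.mem_conj_iff] at htg
      have hord : orderOf (g⁻¹ * t * g) = 2 := by
        rw [show g⁻¹ * t * g = MulAut.conj g⁻¹ t by simp [MulAut.conj_apply], MulEquiv.orderOf_eq, ht]
      have hts := hinv _ htg hord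
      have hle : ((g • S : Sylow 2 G) : Subgroup G) ≤ M := by
        refine le_trans ?_ (hC t (hinv t htM ht) ht)
        rintro _ ⟨s, hs, rfl⟩
        refine mem_centralizer_singleton_iff.mpr ?_
        show g * s * g⁻¹ * t = t * (g * s * g⁻¹)
        calc g * s * g⁻¹ * t = g * (s * (g⁻¹ * t * g)) * g⁻¹ := by group
          _ = g * ((g⁻¹ * t * g) * s) * g⁻¹ := by rw [hcS s hs _ hts]
          _ = _ := by group
      have heq : g • S = S := by
        refine Sylow.ext (eq_of_le_of_card_ge (fun y hy => ?_) ?_)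
        · exact le_normal_sylow (S.subtype hSM) normal_in_normalizer ((g • S).2.comap_subtype (K := M))
            (x := ⟨y, hle hy⟩) hy
        · rw [Sylow.card_eq_multiplicity, Sylow.card_eq_multiplicity]
      exact hg (Sylow.smul_eq_iff_mem_normalizer.mp heq)
    -- two involutions in one coset
    obtain ⟨g, hg⟩ : ∃ g : G, g ∉ M := by
      by_contra h; push Not at h
      exact hMtop (eq_top_iff.mpr fun g _ => h g)
    set x : G ⧸ M := ((1 : G) : G ⧸ M) with hx
    set y : G ⧸ M := ((g : G) : G ⧸ M) with hy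
    have hxy : x ≠ y := fun e => hg (by simpa using QuotientGroup.eq.mp e)
    have htwo : 1 < Nat.card {t : G // orderOf t = 2 ∧ t ∈ M} := by
      rw [Finite.one_lt_card_iff_nontrivial]
      obtain ⟨⟨t, htS⟩, ht2⟩ := exists_prime_orderOf_dvd_card' (G := (S : Subgroup G)) 2
        (hcardS ▸ dvd_pow_self 2 hk0)
      rw [orderOf_mk] at ht2
      by_contra hnon
      haveI := not_nontrivial_iff_subsingleton.mp hnon
      refine absurd (ClassSize.FourIndex.eq_one_of_central_normalizer hnc S hcS htS fun m hm => ?_)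
        (fun e => by rw [e, orderOf_one] at ht2; norm_num at ht2)
      have h2 : orderOf (m * t * m⁻¹) = 2 := by
        rw [show m * t * m⁻¹ = MulAut.conj m t from rfl, MulEquiv.orderOf_eq, ht2]
      have h3 : m * t * m⁻¹ = t := congrArg Subtype.val (Subsingleton.elim
        (⟨_, h2, mul_mem (mul_mem hm (hSM htS)) (inv_mem hm)⟩ : {t : G // orderOf t = 2 ∧ t ∈ M})
        ⟨t, ht2, hSM htS⟩)
      exact mul_inv_eq_iff_eq_mul.mp h3
    rw [← StrongEmb.card_swap hSE x y hxy, Finite.one_lt_card_iff_nontrivial] at htwo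
    obtain ⟨⟨u, hu, hux⟩, ⟨v, hv, hvx⟩, huv⟩ := htwo
    have huM : u ∉ M := fun h => by
      apply hxy
      rw [← hux, hx, MulAction.Quotient.smul_mk, smul_eq_mul, mul_one]
      exact (QuotientGroup.eq.mpr (by simpa using h))
    have hu2 := InvolCalc.inv_of_order_two hu
    have hv2 := InvolCalc.inv_of_order_two hv
    have hjM : u * v ∈ M := by
      have h1 : (u * v) • x = x := by
        rw [mul_smul, hvx, ← hux, smul_smul, InvolCalc.sq_of_order_two hu, one_smul]
      rw [hx, MulAction.Quotient.smul_mk, smul_eq_mul, mul_one, QuotientGroup.eq, mul_one] at h1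
      exact inv_mem_iff.mp h1
    have hj1 : u * v ≠ 1 := fun e => huv (Subtype.ext
      (hu2.symm.trans (inv_eq_of_mul_eq_one_right e)))
    have hinvj : u * (u * v) * u⁻¹ = (u * v)⁻¹ := by
      rw [mul_inv_rev, hv2, hu2, ← mul_assoc, InvolCalc.sq_of_order_two hu, one_mul]
    have hC1 : ∀ j ∈ M, j * j ≠ 1 → u * j * u⁻¹ = j⁻¹ → ∀ s ∈ (S : Subgroup G), orderOf s = 2 → s * j ≠ j * s := by
      intro j _ hjj hij s hs hs2 hcomm
      have hsj : s * j * s⁻¹ = j := by rw [hcomm, mul_inv_cancel_right]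
      by_cases he : Even (orderOf (s * u))
      · obtain ⟨hz, hzs, hzu⟩ := InvolCalc.central_spec hs2 hu he
        have hzM : (s * u) ^ (orderOf (s * u) / 2) ∈ M :=
          hC s hs hs2 (mem_centralizer_singleton_iff.mpr hzs)
        exact huM (hC _ (hinv _ hzM hz) hz (mem_centralizer_singleton_iff.mpr hzu.symm))
      · obtain ⟨i, hi⟩ := Nat.not_even_iff_odd.mp he
        set r := s * u with hr
        have hs' := InvolCalc.inv_of_order_two hs2
        have hrj : r * j * r⁻¹ = j⁻¹ := by
          rw [hr, show s * u * j * (s * u)⁻¹ = s * (u * j * u⁻¹) * s⁻¹ by group, hij,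
            show s * j⁻¹ * s⁻¹ = (s * j * s⁻¹)⁻¹ by group, hsj]
        have hpow : ∀ i : ℕ, (r ^ i)⁻¹ * j * r ^ i = j ∨ (r ^ i)⁻¹ * j * r ^ i = j⁻¹ := by
          intro i
          induction i with
          | zero => left; simp
          | succ i ih =>
            have h1 : r⁻¹ * j * r = j⁻¹ := by
              have := congrArg (fun z => r⁻¹ * z⁻¹ * r) hrj
              simp only [inv_inv] at this
              rw [← this]; group
            have h2 : (r ^ (i + 1))⁻¹ * j * r ^ (i + 1) = (r ^ i)⁻¹ * (r⁻¹ * j * r) * r ^ i := by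
              rw [pow_succ']; group
            rw [h2, h1]
            rw [show (r ^ i)⁻¹ * j⁻¹ * r ^ i = ((r ^ i)⁻¹ * j * r ^ i)⁻¹ by group]
            rcases ih with e | e
            · right; rw [e]
            · left; rw [e, inv_inv]
        have hflip : s * (r ^ i)⁻¹ = r ^ i * s := by
          have := InvolCalc.flip_zpow hs2 hu (-(i : ℤ))
          simpa [zpow_neg, ← hr] using this
        have hui : u = r ^ i * s * (r ^ i)⁻¹ := by
          rw [mul_assoc, hflip, ← mul_assoc, ← pow_add]
          have h3 : r ^ (i + i) * r = 1 := by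
            rw [← pow_succ, show i + i + 1 = orderOf r by omega, pow_orderOf_eq_one]
          rw [eq_inv_of_mul_eq_one_left h3, hr, mul_inv_rev, hu2, hs', mul_assoc, InvolCalc.sq_of_order_two hs2,
            mul_one]
        have hfix : u * j * u⁻¹ = j := by
          rw [hui, show r ^ i * s * (r ^ i)⁻¹ * j * (r ^ i * s * (r ^ i)⁻¹)⁻¹
            = r ^ i * (s * ((r ^ i)⁻¹ * j * r ^ i) * s⁻¹) * (r ^ i)⁻¹ by group]
          have h4 : s * ((r ^ i)⁻¹ * j * r ^ i) * s⁻¹ = (r ^ i)⁻¹ * j * r ^ i := by
            rcases hpow i with e | e <;> rw [e]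
            · exact hsj
            · rw [show s * j⁻¹ * s⁻¹ = (s * j * s⁻¹)⁻¹ by group, hsj]
          rw [h4]; group
        exact hjj (by rw [hfix] at hij; exact inv_eq_iff_mul_eq_one.mp hij.symm)
    -- a prime order element inverted by `u`
    have hMuodd : Odd (orderOf (u * v)) := by
      rw [← Nat.not_even_iff_odd]
      intro he
      obtain ⟨hz, hzu, -⟩ := InvolCalc.central_spec hu hv he
      have hzM := pow_mem hjM (orderOf (u * v) / 2)
      exact huM (hC _ (hinv _ hzM hz) hz (mem_centralizer_singleton_iff.mpr hzu.symm))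
    obtain ⟨q, hq, hqd⟩ := Nat.exists_prime_and_dvd (fun e => hj1 (orderOf_eq_one_iff.mp e) :
      orderOf (u * v) ≠ 1)
    haveI := Fact.mk hq
    set j := (u * v) ^ (orderOf (u * v) / q) with hjdef
    have hjo : orderOf j = q := by
      rw [hjdef, orderOf_pow_of_dvd (Nat.div_pos (Nat.le_of_dvd (orderOf_pos _) hqd) hq.pos).ne'
        (Nat.div_dvd_of_dvd hqd), Nat.div_div_self hqd (orderOf_pos _).ne']
    have hq2 : q ≠ 2 := fun e => by
      subst e
      exact (Nat.not_even_iff_odd.mpr hMuodd) (even_iff_two_dvd.mpr hqd)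
    have hjM' : j ∈ M := pow_mem hjM _
    have hij : u * j * u⁻¹ = j⁻¹ := by rw [hjdef, ← conj_pow, hinvj, inv_pow]
    have hjj : j * j ≠ 1 := fun e => by
      have := orderOf_dvd_of_pow_eq_one (x := j) (n := 2) (by rw [pow_two, e])
      rw [hjo] at this
      exact hq2 ((Nat.prime_dvd_prime_iff_eq hq Nat.prime_two).mp this)
    have hfree : ∀ s ∈ (S : Subgroup G), s * j = j * s → s = 1 := by
      intro s hs hcomm
      by_contra hs1
      obtain ⟨e, he⟩ := S.2 ⟨s, hs⟩
      have he' : s ^ 2 ^ e = 1 := congrArg Subtype.val he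
      obtain ⟨f, -, hf⟩ := (Nat.dvd_prime_pow Nat.prime_two).mp (orderOf_dvd_of_pow_eq_one he')
      have hf0 : f ≠ 0 := fun h => hs1 (orderOf_eq_one_iff.mp (by rw [hf, h, pow_zero]))
      refine hC1 j hjM' hjj hij (s ^ 2 ^ (f - 1)) (pow_mem hs _) ?_ ((Commute.pow_left hcomm _).eq)
      rw [orderOf_pow_of_dvd (pow_ne_zero _ two_ne_zero) (hf ▸ pow_dvd_pow 2 (Nat.sub_le f 1)), hf,
        Nat.pow_div (Nat.sub_le f 1) two_pos, show f - (f - 1) = 1 by omega, pow_one]
    -- the action on the cosets of `O`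
    have huniq : ∀ c c' : G ⧸ O, j • c = c → j • c' = c' → c = c' := by
      intro c c' hc hc'
      induction c using QuotientGroup.induction_on with
      | _ a =>
      induction c' using QuotientGroup.induction_on with
      | _ b =>
      -- use the factorisation relative to the point `a`
      obtain ⟨sa, hsa, oa, hoa, ea⟩ := hfac a
      obtain ⟨sb, hsb, ob, hob, eb⟩ := hfac b
      have hA : ((a : G) : G ⧸ O) = ((sa : G) : G ⧸ O) := QuotientGroup.eq.mpr (by
        rw [ea, mul_inv_rev, mul_assoc, inv_mul_cancel, mul_one]; exact inv_mem hoa)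
      have hB : ((b : G) : G ⧸ O) = ((sb : G) : G ⧸ O) := QuotientGroup.eq.mpr (by
        rw [eb, mul_inv_rev, mul_assoc, inv_mul_cancel, mul_one]; exact inv_mem hob)
      rw [hA, hB]
      set t := sb * sa⁻¹ with ht
      have htS : t ∈ (S : Subgroup G) := mul_mem hsb (inv_mem hsa)
      have htj : j * t * j⁻¹ ∈ (S : Subgroup G) := (mem_normalizer_iff.mp hjM' t).mp htS
      have hc2 : j • ((sa : G) : G ⧸ O) = ((sa : G) : G ⧸ O) := by rw [← hA]; exact hc
      have hc2' : j • ((sb : G) : G ⧸ O) = ((sb : G) : G ⧸ O) := by rw [← hB]; exact hc'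
      have hmap : t • ((sa : G) : G ⧸ O) = ((sb : G) : G ⧸ O) := by
        rw [MulAction.Quotient.smul_coe, smul_eq_mul, ht, inv_mul_cancel_right]
      have h1 : (j * t * j⁻¹) • ((sa : G) : G ⧸ O) = t • ((sa : G) : G ⧸ O) := by
        rw [mul_smul, mul_smul, inv_smul_eq_iff.mpr hc2.symm, hmap, hc2']
      have h2 : sa⁻¹ * (t⁻¹ * (j * t * j⁻¹)) * sa ∈ O := by
        rw [MulAction.Quotient.smul_coe, MulAction.Quotient.smul_coe, smul_eq_mul, smul_eq_mul,
          QuotientGroup.eq] at h1
        have := inv_mem h1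
        rwa [show ((j * t * j⁻¹ * sa)⁻¹ * (t * sa))⁻¹ = sa⁻¹ * (t⁻¹ * (j * t * j⁻¹)) * sa by group] at this
      have h3 : sa⁻¹ * (t⁻¹ * (j * t * j⁻¹)) * sa ∈ (S : Subgroup G) :=
        mul_mem (mul_mem (inv_mem hsa) (mul_mem (inv_mem htS) htj)) hsa
      have h4 : sa⁻¹ * (t⁻¹ * (j * t * j⁻¹)) * sa = 1 := by
        rw [← orderOf_eq_one_iff]
        obtain ⟨e, he⟩ := S.2 ⟨_, h3⟩
        exact Nat.eq_one_of_dvd_coprimes (Nat.Coprime.pow_left e (Nat.coprime_two_left.mpr hO))
          (orderOf_dvd_of_pow_eq_one (congrArg Subtype.val he)) (orderOf_mk _ h2 ▸ orderOf_dvd_natCard _)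
      have h5 : t * j = j * t := by
        have h6 : t⁻¹ * (j * t * j⁻¹) = 1 := by
          have := congrArg (fun z => sa * z * sa⁻¹) h4
          simpa [mul_assoc] using this
        rw [eq_comm, ← mul_inv_eq_iff_eq_mul]
        exact inv_mul_eq_one.mp h6 |>.symm
      rw [← hmap, hfree t htS h5, one_smul]
    have hfix : ∃ c : G ⧸ O, j • c = c := by
      have hpz : IsPGroup q (zpowers j) := IsPGroup.of_card (n := 1) (by rw [Nat.card_zpowers, hjo, pow_one])
      have hnd : ¬ q ∣ Nat.card (G ⧸ O) := by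
        rw [← index_eq_card, hk]
        exact fun h => hq2 ((Nat.prime_dvd_prime_iff_eq hq Nat.prime_two).mp (hq.dvd_of_dvd_pow h))
      obtain ⟨c, hc⟩ := hpz.nonempty_fixed_point_of_prime_not_dvd_card (G ⧸ O) hnd
      exact ⟨c, hc ⟨j, mem_zpowers j⟩⟩
    obtain ⟨c, hc⟩ := hfix
    have hc2 : j • (u • c) = u • c := by
      have h1 : j * u = u * j⁻¹ := by
        rw [← hij]; simp only [hu2]
        rw [← mul_assoc, ← mul_assoc, InvolCalc.sq_of_order_two hu, one_mul]
      rw [← mul_smul, h1, mul_smul, inv_smul_eq_iff.mpr hc.symm]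
    have h3 := huniq _ _ hc2 hc
    induction c using QuotientGroup.induction_on with
    | _ a =>
    rw [MulAction.Quotient.smul_coe, smul_eq_mul, QuotientGroup.eq] at h3
    have h4 : orderOf ((u * a)⁻¹ * a) = 2 := by
      rw [show (u * a)⁻¹ * a = MulAut.conj a⁻¹ u⁻¹ by simp [mul_assoc], MulEquiv.orderOf_eq, orderOf_inv, hu]
    have h5 := orderOf_dvd_natCard (⟨_, h3⟩ : O)
    rw [orderOf_mk, h4] at h5
    exact (Nat.not_even_iff_odd.mpr hO) (even_iff_two_dvd.mpr h5)

/-- a perfect group with abelian 2-subgroups has no proper subgroup of 2-power index -/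
theorem eq_top_of_index (hp : commutator G = ⊤) (hab : AbTwo G) (H : Subgroup G) {c : ℕ}
    (hc : H.index = 2 ^ c) : H = ⊤ := by
  haveI : Fact (Nat.Prime 2) := ⟨Nat.prime_two⟩
  obtain ⟨T⟩ := (inferInstance : Nonempty (Sylow 2 H))
  set T' := (T : Subgroup H).map H.subtype with hT'
  obtain ⟨S, hS⟩ := (T.2.map H.subtype).exists_le_sylow
  have hTS : H.subgroupOf S = T'.subgroupOf S := by
    refine le_antisymm ?_ (fun y hy => map_subtype_le _ hy)
    intro y hy
    have h1 : IsPGroup 2 ((S : Subgroup G).subgroupOf H) := S.2.comap_subtype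
    have h2 : (T : Subgroup H) ≤ (S : Subgroup G).subgroupOf H := fun z hz => hS (mem_map_of_mem _ hz)
    have h3 := T.3 h1 h2
    exact ⟨⟨(y : G), hy⟩, h3 ▸ (y.2 : (y : G) ∈ (S : Subgroup G)), rfl⟩
  have hcard : Nat.card S = Nat.card T * 2 ^ c := by
    obtain ⟨a, ha⟩ := T.2.exists_card_eq
    obtain ⟨b, hb⟩ := S.2.exists_card_eq
    refine Nat.dvd_antisymm ?_ ?_
    · have h1 : Nat.card S ∣ Nat.card T * ((T : Subgroup H).index * 2 ^ c) := by
        rw [← mul_assoc, (T : Subgroup H).card_mul_index, ← hc, H.card_mul_index]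
        exact card_subgroup_dvd_card _
      have h2 : (Nat.card S).Coprime (T : Subgroup H).index := by
        rw [hb]; exact Nat.Coprime.pow_left b (Nat.prime_two.coprime_iff_not_dvd.mpr T.not_dvd_index)
      exact h2.dvd_of_dvd_mul_left (by rwa [mul_left_comm] at h1)
    · rw [ha, ← pow_add]
      refine S.pow_dvd_card_of_pow_dvd_card ?_
      rw [pow_add, ← ha, ← hc, ← H.card_mul_index]
      exact mul_dvd_mul_right (card_subgroup_dvd_card _) _
  have hrel : H.index ≤ H.relIndex S := by
    have h1 : Nat.card (H.subgroupOf S) * H.relIndex S = Nat.card S := (H.subgroupOf (S : Subgroup G)).card_mul_index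
    have h2 : Nat.card (H.subgroupOf S) = Nat.card T := by
      rw [hTS, Nat.card_congr (subgroupOfEquivOfLe hS).toEquiv]
      exact card_map_of_injective H.subtype_injective
    rw [h2, hcard] at h1
    rw [hc, Nat.eq_of_mul_eq_mul_left Nat.card_pos h1]
  set K := normalClosure (T' : Set G)
  have hKH : K ≤ H := by
    show Subgroup.closure (Group.conjugatesOfSet _) ≤ H
    rw [Subgroup.closure_le]
    intro b hb
    obtain ⟨t, ht, htb⟩ := Group.mem_conjugatesOfSet_iff.mp hb
    obtain ⟨g, rfl⟩ := isConj_iff.mp htb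
    obtain ⟨s, hs, h, hh, e⟩ := exists_factor hrel g⁻¹
    show g * t * g⁻¹ ∈ H
    rw [show g = h⁻¹ * s⁻¹ by rw [← mul_inv_rev, ← e, inv_inv],
      show h⁻¹ * s⁻¹ * t * (h⁻¹ * s⁻¹)⁻¹ = h⁻¹ * (s⁻¹ * (t * s)) * h by group,
      hab S S.2 t (hS ht) s hs, inv_mul_cancel_left]
    exact mul_mem (mul_mem (inv_mem hh) (map_subtype_le _ ht)) hh
  haveI : K.Normal := normalClosure_normal
  have hodd : Odd (Nat.card (H.map (QuotientGroup.mk' K))) := by
    rw [← relIndex_ker, QuotientGroup.ker_mk']
    have h1 : K.relIndex H ∣ T'.relIndex H := relIndex_dvd_of_le_left H le_normalClosure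
    have h2 : T'.relIndex H = (T : Subgroup H).index := by
      rw [relIndex, hT', subgroupOf, comap_map_eq_self_of_injective H.subtype_injective]
    exact (Nat.odd_iff.mpr (Nat.two_dvd_ne_zero.mp T.not_dvd_index)).of_dvd_nat (h2 ▸ h1)
  obtain ⟨j, -, hj⟩ := (Nat.dvd_prime_pow Nat.prime_two).mp
    (hc ▸ H.index_map_dvd (QuotientGroup.mk'_surjective K))
  haveI := solvable_of_odd_hall _ (G ⧸ K) le_rfl (abTwo_quot hab K) _ hodd j hj
  have hKtop : K = ⊤ := by
    have hq : commutator (G ⧸ K) = ⊤ := by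
      rw [_root_.commutator_def, ← Subgroup.map_top_of_surjective _ (QuotientGroup.mk'_surjective K),
        ← map_commutator, ← _root_.commutator_def, hp]
    by_contra hne
    haveI : Nontrivial (G ⧸ K) := QuotientGroup.nontrivial_iff.mpr hne
    exact (Group.IsSolvable.commutator_lt_top_of_nontrivial (G ⧸ K)).ne hq
  exact eq_top_iff.mpr (hKtop ▸ hKH)

end Cfsg.Lib.OddHall
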